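import Groth.Agent.H26.Castel.Local
import Groth.Agent.H26.NefGG.Lift
import Groth.Agent.H26.ArtinLipman.Square
import Groth.Agent.H26.Castel.Sections
import Groth.Agent.H26.Castel.Square
import Groth.Agent.H26.ArtinTriv.Contract
import Groth.Agent.CurveCohLib.Proper
import Groth.Agent.FrobIter.Basic

/-!
# Functions near a contracted fundamental cycle
-/

noncomputable section

set_option autoImplicit false
set_option linter.style.haveILetI false
set_option linter.unusedSectionVars false
set_option backward.isDefEq.respectTransparency false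
set_option backward.isDefEq.respectTransparency.types false
set_option maxHeartbeats 1000000

universe u

open CategoryTheory CategoryTheory.Limits AlgebraicGeometry TopologicalSpace Opposite
open Groth.Agent.H23
open Groth.Agent.PnCoh.Finite (mapLin deltaLin)

namespace Groth.Agent.H26.ArtinLipman

open Groth.Agent RelPC17
open Groth.Agent.H26.Castel (gl ρ basicOpen_gl appTop_mul_eq_zero exists_pow_le exists_desc exists_lift exists_lift_genLocus mem_locus_of_notMem mem_killIdeal_quotMod)

variable {A : Type u} [CommRing A] {V : Scheme.{u}} [V.Over (Spec (CommRingCat.of A))]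

theorem ker_pow_mul_le (I : V.IdealSheafData) (n : ℕ) :
    RingHom.ker (ρ (A := A) (I ^ n)) * RingHom.ker (ρ (A := A) I) ≤ RingHom.ker (ρ (A := A) (I ^ (n + 1))) := by
  refine Ideal.mul_le.2 fun a ha b hb => RingHom.mem_ker.2 ?_
  rw [pow_succ]
  show (I ^ n * I).subschemeι.appTop (gl (a * b)) = 0
  rw [map_mul]
  exact appTop_mul_eq_zero (RingHom.mem_ker.1 ha) (RingHom.mem_ker.1 hb)

set_option maxHeartbeats 4000000 in
/-- The thickenings of the fundamental cycle cut out the powers of the maximal ideal. -/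
theorem local_structure [IsNoetherianRing A] [IsNoetherian V] [IsProper (V ↘ Spec (CommRingCat.of A))]
    {Y' : Scheme.{u}} (f : V ⟶ Y') [IsProper f] [IsAffine Y']
    (hd : ∀ y : Y', topologicalKrullDim ↥(f.fiber y) ≤ (1 : ℕ))
    (hbij : Function.Bijective (gl (A := A) (V := V)))
    (m : Ideal A) [m.IsMaximal] (I : V.IdealSheafData) [Nonempty I.subscheme] (hI : BlowUp.IsEffCartierIdeal I)
    (hsupp : ∀ x : V, x ∈ (I.support : Set V) ↔ ((V ↘ Spec (CommRingCat.of A)) x).asIdeal = m)
    (hmI : ∀ a ∈ m, ρ I a = 0)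
    (hoff : ∀ a ∈ m, IsAffineOpen (V.basicOpen (gl a)))
    (hH1 : ∀ n, Subsingleton (Coh.HH V (ClSub.quotMod (I ^ n)) 1))
    (hsurj : ∀ a b : ℕ, a ≤ b → ∀ hle : I ^ b ≤ I ^ a,
      Function.Surjective (Scheme.IdealSheafData.inclusion hle).appTop)
    (hgg : Curv2.IsGloballyGenerated ((Scheme.Modules.pullback I.subschemeι).obj (ClSub.idealMod I))) :
    ∀ n : ℕ, Function.Surjective (ρ (A := A) (I ^ n)) ∧ RingHom.ker (ρ (A := A) (I ^ n)) = m ^ n := by
  classical
  let g := V ↘ Spec (CommRingCat.of A)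
  have hρ1 : RingHom.ker (ρ (A := A) I) = m := by
    refine (Ideal.IsMaximal.eq_of_le ‹m.IsMaximal› (fun h => ?_) hmI).symm
    haveI : Nonempty (⊤ : I.subscheme.Opens) := ⟨⟨Classical.arbitrary _, trivial⟩⟩
    have h1 : ρ (A := A) I 1 = 0 := RingHom.mem_ker.1 (h ▸ Submodule.mem_top)
    rw [map_one] at h1
    exact one_ne_zero h1
  have hge : ∀ n, m ^ n ≤ RingHom.ker (ρ (A := A) (I ^ n)) := fun n => by
    induction n with
    | zero =>
      intro a _
      rw [pow_zero, RingHom.mem_ker]
      haveI : IsEmpty (1 : V.IdealSheafData).subscheme := ⟨fun p => by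
        have h0 : ((1 : V.IdealSheafData).support : Set V) = ∅ := by
          rw [Scheme.IdealSheafData.one_eq_top, Scheme.IdealSheafData.support_top]; rfl
        exact h0.le ((1 : V.IdealSheafData).range_subschemeι.le ⟨p, rfl⟩)⟩
      haveI : Subsingleton Γ((1 : V.IdealSheafData).subscheme, ⊤) := by
        rw [show (⊤ : (1 : V.IdealSheafData).subscheme.Opens) = ⊥ from Subsingleton.elim _ _]
        infer_instance
      exact Subsingleton.elim _ _
    | succ n ih =>
      rw [pow_succ (M := Ideal A)]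
      exact (Ideal.mul_mono ih hρ1.ge).trans (ker_pow_mul_le I n)
  have hkill : ∀ n, m ^ n ≤ FFun.killIdeal (A := A) (ClSub.quotMod (I ^ n)) := fun n a ha =>
    mem_killIdeal_quotMod (RingHom.mem_ker.1 (hge n ha))
  have hpow : ∀ k : ℕ, ∃ N : ℕ, I ^ N ≤ (BlowUpLib.centre (m ^ k)).comap g := fun k => by
    refine exists_pow_le I _ fun x hx => ?_
    rw [Scheme.IdealSheafData.support_comap] at hx
    have h1 : g x ∈ ((BlowUpLib.centre (m ^ k)).support : Set ↥(Spec (CommRingCat.of A))) := hx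
    have h2 : m ^ k ≤ (g x).asIdeal := (NefGG.mem_support_centre_iff (R := CommRingCat.of A) (m ^ k) (g x)).1 h1
    rw [hsupp]
    exact (Ideal.IsMaximal.eq_of_le ‹m.IsMaximal› (g x).2.ne_top ((g x).2.le_of_pow_le h2)).symm
  haveI : V.IsSeparated := ⟨by
    rw [show terminal.from V = g ≫ terminal.from _ from Subsingleton.elim _ _]
    infer_instance⟩
  have hO : Subsingleton (Coh.HH V (Coh.structureModule V) 1) := by
    refine ExcVan.subsingleton_h1 (A := A) m hoff fun k => ?_
    obtain ⟨N, hN⟩ := hpow k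
    obtain ⟨e, he⟩ := exists_desc (A := A) (m ^ k) _ hN
    haveI : Epi e := epi_of_epi_fac he
    haveI := hH1 N
    exact (DimOne.hmap_surjective f hd e (QCoh.isQCoh_pushforward _ QCoh.isQCoh_structureModule)
      (FFun.isCoh_modJ _ QCoh.isCoh_structureModule').1).subsingleton
  -- functions on the thickenings
  have hG := FFun.good_of_finite (X := V) (Z := Set.univ) (fun N hN q => S0002.result A V N hN.1 q) m
  have hs : ∀ n, Function.Surjective (ρ (A := A) (I ^ n)) := fun n z => by
    obtain ⟨k, hk, hG'⟩ := (hG _ (FFun.inCls_univ QCoh.isCoh_structureModule') 0).2 n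
    obtain ⟨N, hN⟩ := hpow k
    have hle1 : I ^ max N n ≤ I ^ n := FrobIter.pow_le_pow_right (le_max_right N n)
    obtain ⟨σ, rfl⟩ := hsurj n (max N n) (le_max_right N n) hle1 z
    obtain ⟨w, hw⟩ := exists_lift (A := A) m hk hG' hle1
      ((FrobIter.pow_le_pow_right (le_max_left N n)).trans hN) (hkill n) σ
    obtain ⟨a, rfl⟩ := hbij.2 w
    exact ⟨a, hw⟩
  have hH1I : ∀ n, Subsingleton (Coh.HH V (ClSub.idealMod (I ^ n)) 1) := fun n =>
    Castel.subsingleton_H1_idealMod A _ hO fun z => (hs n z).elim fun a ha => ⟨gl a, ha⟩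
  -- sections generate the ideal
  have hA : PicF.IsInvertible (ClSub.idealMod I) := IdealCl.isInvertible_idealMod hI
  obtain ⟨e, -⟩ := EulerFibre.exists_mul_iso I.subschemeι.ker I hI
  have hH1AA : Subsingleton (Coh.HH V (CohB1.tensorMod (ClSub.idealMod I) (ClSub.idealMod I.subschemeι.ker)) 1) := by
    refine QCoh.subsingleton_HH_of_iso e.symm 1 ?_
    rw [Scheme.IdealSheafData.ker_subschemeι, ← sq]
    exact hH1I 2
  have hgen : ∀ x : V, ∃ s : Γ(ClSub.idealMod I, ⊤), x ∈ TrivBasic.locus s := by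
    intro x
    by_cases hx : x ∈ (I.support : Set V)
    · obtain ⟨c, rfl⟩ := I.range_subschemeι.ge hx
      obtain ⟨t, ht⟩ := GenLocusGG.exists_mem_locus (PicClLib.isInvertible_pullback I.subschemeι hA) hgg c
      obtain ⟨b, hb⟩ := exists_lift_genLocus I.subschemeι hA (Iso.refl _) hH1AA (InvX.ofSect t)
      obtain ⟨U, hU, hfr⟩ := InvX.mem_genLocus (hb c ht)
      exact ⟨InvX.one b, TrivBasic.mem_locus_iff.2 ⟨U, hU, hfr⟩⟩
    · obtain ⟨a, ha, hax⟩ : ∃ a ∈ m, a ∉ (g x).asIdeal := by
        by_contra hc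
        push_neg at hc
        exact hx ((hsupp x).2 (Ideal.IsMaximal.eq_of_le ‹m.IsMaximal› (g x).2.ne_top hc).symm)
      obtain ⟨s, hs'⟩ := OmegaLib.exists_idealSect_eq I ⊤ (gl a) (hmI a ha)
      exact ⟨s, mem_locus_of_notMem I s x (by rw [hs', basicOpen_gl]; exact hax) hx⟩
  let ε : A ≃+* Γ(V, ⊤) := RingEquiv.ofBijective gl hbij
  have hK : ∀ J : V.IdealSheafData, RingHom.ker J.subschemeι.appTop.hom =
      (RingHom.ker (ρ (A := A) J)).map (ε : A →+* Γ(V, ⊤)) := fun J =>
    ((RingHom.ker J.subschemeι.appTop.hom).map_comap_of_surjective (ε : A →+* Γ(V, ⊤)) ε.surjective).symm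
  refine fun n => ⟨hs n, ?_⟩
  induction n with
  | zero =>
    rw [pow_zero (M := Ideal A), Ideal.one_eq_top, eq_top_iff]
    have := hge 0
    rwa [pow_zero (M := Ideal A), Ideal.one_eq_top] at this
  | succ n ih =>
    refine le_antisymm ?_ (hge (n + 1))
    rcases Nat.eq_zero_or_pos n with rfl | hn
    · rw [zero_add, pow_one, pow_one]
      exact hρ1.le
    obtain ⟨k, rfl⟩ : ∃ k, n = k + 1 := ⟨n - 1, by omega⟩
    intro a ha
    have h0 : (I ^ k * I * I).subschemeι.appTop (gl a) = 0 := by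
      rw [← pow_succ, ← pow_succ]; exact RingHom.mem_ker.1 ha
    have h1 := ker_mul_le f hd I hI hgen (I ^ k) (by rw [← pow_succ]; exact PointBlow.isEffCartier_pow hI _)
      (PointBlow.isEffCartier_pow hI k) (hH1I k) h0
    rw [← pow_succ, hK, hK, ih, hρ1, ← Ideal.map_mul, ← pow_succ] at h1
    obtain ⟨b, hb, hba⟩ := (Ideal.mem_map_iff_of_surjective (ε : A →+* Γ(V, ⊤)) ε.surjective).1 h1
    rwa [← hbij.1 (hba : gl b = gl a)]

end Groth.Agent.H26.ArtinLipman
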