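import Groth.Agent.H26.Adjunction.PicTriv
import Groth.Agent.H26.ArtinTriv.Div
import Groth.Agent.H26.Castel.Thick
import Groth.Agent.S7908
import Groth.Agent.Lib.EulerEtale
import Groth.Agent.H26.ArtinTriv.Main
import Groth.Agent.H26.Adjunction.Vertical
import Groth.Agent.H26.Adjunction.Degree
import Groth.Agent.H26.Chain
import Groth.Agent.H26.ArtinTriv.Div
import Groth.Agent.Lib.HomPushSections
import Groth.Agent.FComplLib.IdealComap
import Groth.Agent.AmpleVan.ThickPush
import Groth.Agent.H9Misc.ClosedPushFull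
import Groth.Agent.RelCurveDiv.Sum
import Groth.Agent.AGF20Lib.PicThk
import Groth.Agent.AmpleDesc5.Stage

/-!
# The fundamental cycle and its multiples
-/

noncomputable section

set_option autoImplicit false
set_option linter.style.haveILetI false
set_option linter.unusedSectionVars false
set_option backward.isDefEq.respectTransparency false
set_option backward.isDefEq.respectTransparency.types false
set_option maxHeartbeats 1000000

universe u

open CategoryTheory CategoryTheory.Limits AlgebraicGeometry TopologicalSpace Opposite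
open Groth.Agent.H23 Groth.Agent.H28
open Groth.Agent.PnCoh.Finite (mapLin deltaLin)
open scoped Groth.Agent.H23.PicMul

namespace Groth.Agent.H26.ArtinLipman

open Groth.Agent

variable {R : Type u} [CommRing R] [IsDomain R] [IsDiscreteValuationRing R] {X : Over (Spec (CommRingCat.of R))}

/-- `0 → O_K(-J) → O_{J·K} → O_J → 0`. -/
theorem exists_step_ses [IsProper X.hom] (K : X.left.IdealSheafData) {J : X.left.IdealSheafData}
    (hJ : BlowUp.IsEffCartierIdeal J) (hle : J * K ≤ J) :
    ∃ (M : K.subscheme.Modules) (_ : Nonempty (M ≅ (Scheme.Modules.pullback K.subschemeι).obj (ClSub.idealMod J)))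
      (f : (Scheme.Modules.pushforward K.subschemeι).obj M ⟶ ClSub.quotMod (J * K))
      (w : f ≫ Chain.quotMap hle = 0),
      (ShortComplex.mk f (Chain.quotMap hle) w).ShortExact := by
  haveI : IsLocallyNoetherian X.left := LocallyOfFiniteType.isLocallyNoetherian X.hom
  have hA := IdealCl.isInvertible_idealMod hJ
  let A := ClSub.idealMod J
  haveI := IdealCl.isEquivalence_tensor hA
  haveI : Mono (ClSub.idealModι K) := inferInstanceAs (Mono (kernel.ι _))
  haveI : Mono (ClSub.idealModι J) := inferInstanceAs (Mono (kernel.ι _))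
  haveI : Mono (DivisorExt.mulIdeal K A) := by
    haveI : Mono ((DCoh.tensorBi.obj A).map (ClSub.idealModι K)) := inferInstance
    exact mono_comp _ _
  let f := DivisorExt.mulIdeal K A
  let g : A ⟶ Coh.structureModule X.left := ClSub.idealModι J
  let T : ShortComplex X.left.Modules :=
    ShortComplex.mk (cokernel.map f (f ≫ g) (𝟙 _) g (by simp)) (cokernel.map (f ≫ g) g f (𝟙 _) (by simp))
      ((kernelCokernelCompSequence_exact f g).toIsComplex.zero' 3 4 5)
  have hT : T.ShortExact := by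
    have h1 : T.Exact := (kernelCokernelCompSequence_exact f g).exact' 3 4 5
    haveI : Mono T.f := ((kernelCokernelCompSequence_exact f g).exact' 2 3 4).mono_g
      ((isZero_kernel_of_mono g).eq_of_src _ _)
    haveI : Epi T.g := inferInstanceAs (Epi ((kernelCokernelCompSequence f g).map' 4 5))
    exact ShortComplex.ShortExact.mk h1
  obtain ⟨e₁⟩ := DivisorExt.nonempty_cokernel_mulIdeal K A
  haveI := KFlatLib.isIso_projMod_of_isClosedImmersion K.subschemeι (Coh.structureModule K.subscheme) A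
  let M := (DCoh.tensorBi.obj (Coh.structureModule K.subscheme)).obj ((Scheme.Modules.pullback K.subschemeι).obj A)
  let e₂ : (DCoh.tensorBi.obj A).obj (ClSub.quotMod K) ≅ (Scheme.Modules.pushforward K.subschemeι).obj M :=
    (PicMul.comm A _).some ≪≫ asIso (KFlatLib.projMod K.subschemeι (Coh.structureModule K.subscheme) A)
  obtain ⟨e, he⟩ : ∃ e : (DCoh.tensorBi.obj A).obj (ClSub.idealMod K) ≅ ClSub.idealMod (J * K),
      e.hom ≫ ClSub.idealModι (J * K) = f ≫ g := EulerFibre.exists_mul_iso K J hJ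
  have hπ : ∀ I : X.left.IdealSheafData, cokernel.π (ClSub.idealModι I) ≫
      (IsColimit.coconePointUniqueUpToIso (cokernelIsCokernel (ClSub.idealModι I))
        (DivisorExt.ideal_shortExact I).gIsCokernel).hom = ClSub.toSubscheme I := fun I =>
    IsColimit.comp_coconePointUniqueUpToIso_hom (cokernelIsCokernel (ClSub.idealModι I)) _ WalkingParallelPair.one
  let qJ := IsColimit.coconePointUniqueUpToIso (cokernelIsCokernel (ClSub.idealModι J))
    (DivisorExt.ideal_shortExact J).gIsCokernel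
  let qK := IsColimit.coconePointUniqueUpToIso (cokernelIsCokernel (ClSub.idealModι (J * K)))
    (DivisorExt.ideal_shortExact (J * K)).gIsCokernel
  let qI := cokernel.mapIso (f ≫ g) (ClSub.idealModι (J * K)) e (Iso.refl _) (by simp [he]) ≪≫ qK
  have hπJ : cokernel.π g ≫ qJ.hom = ClSub.toSubscheme J :=
    hπ J
  have hπI : cokernel.π (f ≫ g) ≫ qI.hom = ClSub.toSubscheme (J * K) := by
    simp only [qI, Iso.trans_hom, cokernel.mapIso_hom, cokernel.π_desc_assoc, Iso.refl_hom, Category.id_comp]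
    exact hπ (J * K)
  have hq : qI.hom ≫ Chain.quotMap hle = T.g ≫ qJ.hom := by
    rw [← cancel_epi (cokernel.π (f ≫ g)), ← Category.assoc, hπI, Chain.toSubscheme_quotMap]
    refine hπJ.symm.trans ?_
    show _ = cokernel.π (f ≫ g) ≫ cokernel.map (f ≫ g) g f (𝟙 _) (by simp) ≫ qJ.hom
    rw [cokernel.π_desc_assoc, Category.id_comp]
  refine ⟨M, PicMul.cl_eq_iff.1 ?_, (e₁ ≪≫ e₂).inv ≫ T.f ≫ qI.hom, ?_, ?_⟩
  · letI := PicMul.clMonoid K.subscheme
    show PicF.cl (CohB1.tensorMod (Coh.structureModule K.subscheme) ((Scheme.Modules.pullback K.subschemeι).obj A)) = _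
    rw [PicMul.cl_tensor, ← PicMul.one_def, one_mul]
  · simp only [Category.assoc, hq]
    simp
  · exact ShortComplex.shortExact_of_iso (ShortComplex.isoMk (e₁ ≪≫ e₂) qI qJ (by simp) hq) hT

variable {r : ℕ} (Γ : Fin r → ArSurf.VertComp R X)

/-- The divisor with multiplicities `a`. -/
abbrev P (a : Fin r → ℕ) : X.left.IdealSheafData := ∏ j, (Γ j).ι.ker ^ a j

/-- The hypotheses of Artin's criterion: no first cohomology and trivial `Pic⁰` on all cycles. -/
def Rational : Prop :=
  ∀ a : Fin r → ℕ, a ≠ 0 →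
    Subsingleton (Coh.HH (P Γ a).subscheme (Coh.structureModule (P Γ a).subscheme) 1) ∧
    ∀ N : (P Γ a).subscheme.Modules, PicF.IsInvertible N →
      (∀ (i : Fin r) (g : (Γ i).curve.left ⟶ (P Γ a).subscheme), g ≫ (P Γ a).subschemeι = (Γ i).ι →
        ArSurf.curveDeg (IsLocalRing.ResidueField R) (Γ i).curve.left ((Scheme.Modules.pullback g).obj N) = 0) →
      Nonempty (N ≅ Coh.structureModule (P Γ a).subscheme)

theorem P_nsmul (n : ℕ) (a : Fin r → ℕ) : P Γ (fun j => n * a j) = P Γ a ^ n := by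
  show ∏ j, (Γ j).ι.ker ^ (n * a j) = (∏ j, (Γ j).ι.ker ^ a j) ^ n
  rw [← Finset.prod_pow]
  exact Finset.prod_congr rfl fun j _ => by rw [mul_comm, pow_mul]

theorem subsingleton_H1_P (hb : Rational Γ) (a : Fin r → ℕ) :
    Subsingleton (Coh.HH X.left (ClSub.quotMod (P Γ a)) 1) := by
  by_cases ha : a = 0
  · subst ha
    rw [show P Γ (0 : Fin r → ℕ) = ⊤ from (Finset.prod_eq_one fun j _ => pow_zero _).trans rfl]
    exact Euler.subsingleton_HH_of_isZero
      (CurveCohLib.isZero_of_subsingleton_stalks fun x => ParShLib.subsingleton_stalk_quotMod _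
        (by rw [Scheme.IdealSheafData.support_top]; exact id)) 1
  · haveI := (hb a ha).1
    obtain ⟨e⟩ := QCoh.HH_push_of_isAffineHom (P Γ a).subschemeι
      (QCoh.isQCoh_structureModule (X := (P Γ a).subscheme)) 1
    exact e.symm.toEquiv.subsingleton

theorem support_P (a : Fin r → ℕ) (ha : ∀ i, 1 ≤ a i) :
    ((P Γ a).support : Set X.left) = ⋃ i, Set.range (Γ i).ι.base := by
  refine (ArtinTriv.mem_support_prod Finset.univ (fun j => (Γ j).ι.ker) a ha).trans ?_
  simp only [Finset.mem_univ, Set.iUnion_true]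
  exact Set.iUnion_congr fun j => by
    rw [Scheme.Hom.support_ker]
    exact (Γ j).ι.isClosedEmbedding.isClosed_range.closure_eq

variable (hX : ArSurf.IsArithSurface R X)
  (hΓ : Function.Injective fun i => Set.range ((Γ i).ι.base : (Γ i).curve.left → X.left))
  (L : Fin r → X.left.Modules) (hL : ∀ j, ClSub.IsInverseOf (L j) (ClSub.idealMod (Γ j).ι.ker))

include hX hΓ hL in
/-- The functions on the fundamental cycle form a field. -/
theorem fld_fundamental (hconn : _root_.IsConnected (⋃ i, Set.range ((Γ i).ι.base : (Γ i).curve.left → X.left)))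
    (z : Fin r → ℕ) (hz1 : ∀ i, 1 ≤ z i)
    (hz : ∀ i, ∑ j, (z j : ℤ) * ArSurf.inter R X (L j) (Γ i) ≤ 0)
    (hmin : ∀ z' : Fin r → ℕ, (∀ i, 1 ≤ z' i) → (∀ i, ∑ j, (z' j : ℤ) * ArSurf.inter R X (L j) (Γ i) ≤ 0) →
      ∀ i, z i ≤ z' i) :
    Chain.Fld (P Γ z) := by
  classical
  haveI := Adjunction.isProper_hom hX
  have heff : ∀ i, BlowUp.IsEffCartierIdeal (Γ i).ι.ker := fun i => Adjunction.heff_vert hX _
  obtain ⟨x₀, hx₀⟩ := hconn.nonempty
  obtain ⟨i₀, -⟩ := Set.mem_iUnion.1 hx₀
  let Q : Fin r → Fin r → ℤ := fun i j => ArSurf.inter R X (L j) (Γ i)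
  have hcl : ∀ i, IsClosed (Set.range (Γ i).ι.base) := fun i => (Γ i).ι.isClosedEmbedding.isClosed_range
  have hsuppi : ∀ j, ((Γ j).ι.ker.support : Set X.left) = Set.range (Γ j).ι.base := fun j => by
    rw [Scheme.Hom.support_ker]; exact (hcl j).closure_eq
  have hoff : ∀ i j, i ≠ j → 0 ≤ Q i j ∧ (Q i j = 0 ↔ Disjoint (Set.range (Γ i).ι.base) (Set.range (Γ j).ι.base)) :=
    fun i j hij => by
      rw [← hsuppi j]
      exact InterDiv.inter_nonneg_and_eq_zero_iff (Γ i) (heff j)
        (by rw [hsuppi]; exact InterSymm.genPt_notMem (Γ i) (Γ j) fun h => hij (hΓ h)) (hL j)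
  have hmeet : ∀ S : Finset (Fin r), i₀ ∈ S → (∃ i, i ∉ S) → ∃ i ∈ S, ∃ j ∉ S, 0 < Q j i := by
    intro S hS ⟨j₀, hj₀⟩
    by_contra hno
    push_neg at hno
    let A := ⋃ i ∈ S, Set.range (Γ i).ι.base
    let B := ⋃ i ∈ Sᶜ, Set.range (Γ i).ι.base
    have hA : IsClosed A := S.finite_toSet.isClosed_biUnion fun i _ => hcl i
    have hB : IsClosed B := Sᶜ.finite_toSet.isClosed_biUnion fun i _ => hcl i
    have hne : ∀ i, ∃ p, p ∈ Set.range (Γ i).ι.base := fun i => by
      haveI := (Γ i).isIntegral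
      exact ⟨_, genericPoint (Γ i).curve.left, rfl⟩
    obtain ⟨p, hp⟩ := hne i₀
    obtain ⟨q, hq⟩ := hne j₀
    obtain ⟨x, -, hxA, hxB⟩ := (isPreconnected_closed_iff.1 hconn.isPreconnected) A B hA hB
      (fun x hx => by
        obtain ⟨i, hi⟩ := Set.mem_iUnion.1 hx
        by_cases h : i ∈ S
        · exact Or.inl (Set.mem_iUnion₂.2 ⟨i, h, hi⟩)
        · exact Or.inr (Set.mem_iUnion₂.2 ⟨i, Finset.mem_compl.2 h, hi⟩))
      ⟨p, Set.mem_iUnion.2 ⟨i₀, hp⟩, Set.mem_iUnion₂.2 ⟨i₀, hS, hp⟩⟩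
      ⟨q, Set.mem_iUnion.2 ⟨j₀, hq⟩, Set.mem_iUnion₂.2 ⟨j₀, Finset.mem_compl.2 hj₀, hq⟩⟩
    obtain ⟨i, hi, hxi⟩ := Set.mem_iUnion₂.1 hxA
    obtain ⟨j, hj, hxj⟩ := Set.mem_iUnion₂.1 hxB
    have hj' := Finset.mem_compl.1 hj
    have hji : j ≠ i := fun h => hj' (h ▸ hi)
    exact Set.disjoint_left.1 ((hoff j i hji).2.1 (le_antisymm (hno i hi j hj') (hoff j i hji).1)) hxj hxi
  have hstep : ∀ a : Fin r → ℕ, Pi.single i₀ 1 ≤ a → a ≤ z → a ≠ z →
      ∃ i, a i < z i ∧ 0 < ∑ j, (a j : ℤ) * ArSurf.inter R X (L j) (Γ i) := by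
    intro a ha haz hne
    by_contra hno
    push_neg at hno
    have hall : ∀ i, ∑ j, (a j : ℤ) * Q i j ≤ 0 := fun i => by
      by_cases hi : a i < z i
      · exact hno i hi
      have hi' : a i = z i := le_antisymm (haz i) (not_lt.1 hi)
      refine le_trans ?_ (hz i)
      refine Finset.sum_le_sum fun j _ => ?_
      by_cases hj : i = j
      · subst hj; rw [hi']
      · exact mul_le_mul_of_nonneg_right (by exact_mod_cast haz j) (hoff i j hj).1
    have ha1 : ∀ i, 1 ≤ a i := by
      by_contra h1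
      push_neg at h1
      obtain ⟨i₁, hi₁⟩ := h1
      obtain ⟨i, hi, j, hj, hQ⟩ := hmeet (Finset.univ.filter fun i => 1 ≤ a i)
        (Finset.mem_filter.2 ⟨Finset.mem_univ _, by have := ha i₀; simpa using this⟩)
        ⟨i₁, fun h => by have := (Finset.mem_filter.1 h).2; omega⟩
      have hi' : 1 ≤ a i := (Finset.mem_filter.1 hi).2
      have hj' : a j = 0 := by
        by_contra h
        exact hj (Finset.mem_filter.2 ⟨Finset.mem_univ _, Nat.one_le_iff_ne_zero.2 h⟩)
      have hpos : 0 < ∑ l, (a l : ℤ) * Q j l := Finset.sum_pos' (fun l _ => by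
        by_cases hl : j = l
        · subst hl; rw [hj']; simp
        · exact mul_nonneg (Int.natCast_nonneg _) (hoff j l hl).1)
        ⟨i, Finset.mem_univ i, mul_pos (by exact_mod_cast hi') hQ⟩
      exact absurd (hall j) (not_le.2 hpos)
    exact hne (funext fun i => le_antisymm (haz i) (hmin a ha1 hall i))
  have h0 : Chain.Fld (∏ j, (Γ j).ι.ker ^ (Pi.single i₀ 1 : Fin r → ℕ) j) := by
    rw [show ∏ j, (Γ j).ι.ker ^ (Pi.single i₀ 1 : Fin r → ℕ) j = (Γ i₀).ι.ker by
      rw [Finset.prod_eq_single i₀ (fun j _ hj => by rw [Pi.single_eq_of_ne hj, pow_zero])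
        (fun h => absurd (Finset.mem_univ i₀) h), Pi.single_eq_same, pow_one]]
    exact Chain.fld_ker (Γ i₀)
  obtain ⟨s, c, -, hcl', -, hcf⟩ := Chain.exists_chain heff hL z _ (Pi.single i₀ 1) rfl (fun j => by
    by_cases h : j = i₀
    · subst h; simp only [Pi.single_eq_same]; exact hz1 _
    · simp [Pi.single_eq_of_ne h]) h0 hstep
  exact hcl' ▸ hcf (Fin.last s)

/-- Degrees are invariant under isomorphisms of curves. -/
theorem curveDeg_iso [IsProper X.hom] (E D : ArSurf.VertComp R X) (ε : D.curve.left ≅ E.curve.left)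
    (hw : ε.hom ≫ E.curve.hom = D.curve.hom) {N : E.curve.left.Modules} (hN : PicF.IsInvertible N) :
    ArSurf.curveDeg (IsLocalRing.ResidueField R) D.curve.left ((Scheme.Modules.pullback ε.hom).obj N) =
      ArSurf.curveDeg (IsLocalRing.ResidueField R) E.curve.left N := by
  let k := IsLocalRing.ResidueField R
  haveI := ArInter.isProper_curve E
  haveI := ArInter.isProper_curve D
  haveI := CurveCohLib.isNoetherian_of_proper (k := k) (X := E.curve.left)
  obtain ⟨o⟩ := PicClLib.nonempty_pullback_structureModule ε.hom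
  rw [Adjunction.deg_eq D (PicClLib.isInvertible_pullback _ hN), Adjunction.deg_eq E hN,
    EulerEtale.euler_restrict_iso (k := k) ε.hom hw (CurveDeg.isCoh_of_isInvertible hN).1,
    ← EulerEtale.euler_restrict_iso (k := k) ε.hom hw (QCoh.isQCoh_structureModule (X := E.curve.left)),
    CurveCohLib.euler_congr (k := k) o]

variable [Infinite (IsLocalRing.ResidueField R)]

include hX hL in
/-- A sheaf of non-negative degrees on a cycle has no first cohomology and is generated. -/
theorem nef_on_P (hb : Rational Γ) (z : Fin r → ℕ) (hz1 : ∀ i, 1 ≤ z i) (hne : z ≠ 0)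
    (hsub : Set.range (P Γ z).subschemeι.base ⊆ Models.specialFibreSet R X)
    {M : (P Γ z).subscheme.Modules} (hM : PicF.IsInvertible M)
    (hdeg : ∀ (i : Fin r) (g : (Γ i).curve.left ⟶ (P Γ z).subscheme), g ≫ (P Γ z).subschemeι = (Γ i).ι →
      0 ≤ ArSurf.curveDeg (IsLocalRing.ResidueField R) (Γ i).curve.left ((Scheme.Modules.pullback g).obj M)) :
    Subsingleton (Coh.HH (P Γ z).subscheme M 1) ∧ Curv2.IsGloballyGenerated M := by
  haveI := Adjunction.isProper_hom hX
  haveI : IsLocallyNoetherian X.left := LocallyOfFiniteType.isLocallyNoetherian X.hom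
  have hPeff : BlowUp.IsEffCartierIdeal (P Γ z) :=
    (IdealCl.eff_and_cl_prod Finset.univ (fun j => (Γ j).ι.ker) (fun j => Adjunction.heff_vert hX _) z).1
  have hfac : ∀ (Δ : ArSurf.VertComp R X) (g : Δ.curve.left ⟶ (P Γ z).subscheme),
      g ≫ (P Γ z).subschemeι = Δ.ι → ∃ (i : Fin r) (ε : Δ.curve.left ≅ (Γ i).curve.left), ε.hom ≫ (Γ i).ι = Δ.ι := by
    intro Δ g hg
    haveI := Δ.isIntegral
    haveI := Δ.isClosedImmersion
    have hη : Δ.ι (genericPoint Δ.curve.left) ∈ ⋃ i, Set.range (Γ i).ι.base := by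
      rw [← support_P Γ z hz1, ← hg]
      exact (P Γ z).range_subschemeι.le ⟨g (genericPoint Δ.curve.left), rfl⟩
    obtain ⟨i, hi⟩ := Set.mem_iUnion.1 hη
    haveI := (Γ i).isIntegral
    have hrange : Set.range Δ.ι.base = Set.range (Γ i).ι.base := by_contra fun hne' =>
      InterSymm.genPt_notMem Δ (Γ i) hne' hi
    obtain ⟨ε, hε⟩ := H23.RedSub.exists_iso_of_range_eq Δ.ι (Γ i).ι hrange
    exact ⟨i, ε, hε⟩
  refine S7908.result R X hX (P Γ z).subscheme (P Γ z).subschemeι
    (by rw [Scheme.IdealSheafData.ker_subschemeι]; exact hPeff) hsub (hb z hne).1 (fun N hN hd => ?_) M hM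
    (fun Δ g hg => ?_)
  · exact (hb z hne).2 N hN fun i g hg => hd (Γ i) g hg
  · obtain ⟨i, ε, hε⟩ := hfac Δ g hg
    have hg' : (ε.inv ≫ g) ≫ (P Γ z).subschemeι = (Γ i).ι := by
      rw [Category.assoc, hg, Iso.inv_comp_eq, hε]
    have hw : ε.hom ≫ (Γ i).curve.hom = Δ.curve.hom := by
      haveI : IsClosedImmersion (Spec.map (CommRingCat.ofHom (IsLocalRing.residue R))) :=
        IsClosedImmersion.spec_of_surjective (CommRingCat.ofHom (IsLocalRing.residue R)) IsLocalRing.residue_surjective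
      refine (cancel_mono (Spec.map (CommRingCat.ofHom (IsLocalRing.residue R)))).1 ?_
      rw [Category.assoc, ← (Γ i).w, ← Category.assoc, hε, Δ.w]
    haveI := ArInter.isProper_curve Δ
    haveI := ArInter.isProper_curve (Γ i)
    have h := hdeg i (ε.inv ≫ g) hg'
    have e : (Scheme.Modules.pullback g).obj M ≅
        (Scheme.Modules.pullback ε.hom).obj ((Scheme.Modules.pullback (ε.inv ≫ g)).obj M) :=
      (Scheme.Modules.pullbackCongr (show g = ε.hom ≫ ε.inv ≫ g by simp)).app M ≪≫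
        ((Scheme.Modules.pullbackComp ε.hom (ε.inv ≫ g)).app M).symm
    rw [ArInter.curveDeg_eq Δ (PicClLib.isInvertible_pullback _ hM), CurveRR.deg_congr _ e,
      ← ArInter.curveDeg_eq Δ (PicClLib.isInvertible_pullback _ (PicClLib.isInvertible_pullback _ hM)),
      curveDeg_iso (Γ i) Δ ε hw (PicClLib.isInvertible_pullback _ hM)]
    exact h

include hX hL in
/-- Restriction between consecutive multiples is surjective. -/
theorem surjective_step (hb : Rational Γ) (z : Fin r → ℕ) (hz1 : ∀ i, 1 ≤ z i) (hne : z ≠ 0)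
    (hsub : Set.range (P Γ z).subschemeι.base ⊆ Models.specialFibreSet R X)
    (hz : ∀ i, ∑ j, (z j : ℤ) * ArSurf.inter R X (L j) (Γ i) ≤ 0)
    (n : ℕ) (hle : P Γ z ^ (n + 1) ≤ P Γ z ^ n) :
    Function.Surjective (Scheme.IdealSheafData.inclusion hle).appTop := by
  haveI := Adjunction.isProper_hom hX
  have hJ : BlowUp.IsEffCartierIdeal (P Γ z ^ n) := by
    rw [← P_nsmul]
    exact (IdealCl.eff_and_cl_prod Finset.univ (fun j => (Γ j).ι.ker) (fun j => Adjunction.heff_vert hX _) _).1
  obtain ⟨M, ⟨eM⟩, f, w, hS⟩ := exists_step_ses (P Γ z) hJ (RelCurveDiv.mul_le_left _ _)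
  have hMi : PicF.IsInvertible M := PicMul.isInvertible_of_iso eM.symm
    (PicClLib.isInvertible_pullback _ (IdealCl.isInvertible_idealMod hJ))
  have h1 : Subsingleton (Coh.HH (P Γ z).subscheme M 1) := (nef_on_P Γ hX L hL hb z hz1 hne hsub hMi fun i g hg => by
    haveI := ArInter.isProper_curve (Γ i)
    let ee : (Scheme.Modules.pullback g).obj M ≅ (Scheme.Modules.pullback (Γ i).ι).obj (ClSub.idealMod (P Γ z ^ n)) :=
      (Scheme.Modules.pullback g).mapIso eM ≪≫ (Scheme.Modules.pullbackComp g _).app _ ≪≫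
        (Scheme.Modules.pullbackCongr hg).app _
    rw [ArInter.curveDeg_eq (Γ i) (PicClLib.isInvertible_pullback g hMi), CurveRR.deg_congr _ ee,
      ← ArInter.curveDeg_eq (Γ i) (PicClLib.isInvertible_pullback _ (IdealCl.isInvertible_idealMod hJ))]
    refine le_of_le_of_eq ?_ (show ArSurf.inter R X (ClSub.idealMod (P Γ z ^ n)) (Γ i) = _ from rfl)
    rw [← P_nsmul, Chain.inter_prod (fun j => Adjunction.heff_vert hX _) hL]
    have h2 : ∑ j, ((n * z j : ℕ) : ℤ) * ArSurf.inter R X (L j) (Γ i) =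
        (n : ℤ) * ∑ j, (z j : ℤ) * ArSurf.inter R X (L j) (Γ i) := by
      rw [Finset.mul_sum]
      exact Finset.sum_congr rfl fun j _ => by push_cast; ring
    rw [h2]
    nlinarith [hz i]).1
  haveI : IsLocallyNoetherian X.left := LocallyOfFiniteType.isLocallyNoetherian X.hom
  haveI : IsLocallyNoetherian (P Γ z).subscheme := LocallyOfFiniteType.isLocallyNoetherian (P Γ z).subschemeι
  have hq : Coh.IsQCoh M := (CurveDeg.isCoh_of_isInvertible hMi).1
  obtain ⟨e⟩ := QCoh.HH_push_of_isAffineHom (P Γ z).subschemeι hq 1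
  haveI := h1
  have key : ∀ (I' J' : X.left.IdealSheafData) (h' : I' ≤ J'), I' = P Γ z ^ n * P Γ z → J' = P Γ z ^ n →
      Function.Surjective (Scheme.IdealSheafData.inclusion h').appTop := by
    rintro I' J' h' rfl rfl
    intro x
    obtain ⟨c, hc⟩ := RelPC17.FibTriv.app_top_surjective hS e.symm.toEquiv.subsingleton
      (show Γ(ClSub.quotMod (P Γ z ^ n), ⊤) from x)
    exact ⟨c, (Castel.quotMap_app_top h' c).symm.trans hc⟩
  exact key _ _ hle (pow_succ _ _) rfl

end Groth.Agent.H26.ArtinLipman
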