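import Groth.Agent.H26.Castel.Main
import Groth.Agent.H26.ArtinLipman.Thick
import Groth.Agent.H26.ArtinLipman.Local
import Groth.Agent.H26.Castel.Thick
import Groth.Agent.H26.Castel.LineGG
import Groth.Agent.H26.Castel.Local
import Groth.Agent.H26.Castel.Cotangent
import Groth.Agent.H26.Contract
import Groth.Agent.ExcVan.Main
import Groth.Agent.MeroX.EffCartier
import Groth.Agent.H26.InterDiv
import Groth.Agent.H26.HorizGG.Main
import Groth.Agent.AmpleX.Generated

/-!
# The singularity obtained by contracting a rational configuration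
-/

noncomputable section

set_option autoImplicit false
set_option linter.style.haveILetI false
set_option linter.unusedSectionVars false
set_option backward.isDefEq.respectTransparency false
set_option backward.isDefEq.respectTransparency.types false
set_option maxHeartbeats 1000000

universe u

open CategoryTheory CategoryTheory.Limits AlgebraicGeometry TopologicalSpace Opposite
open Groth.Agent.H23

namespace Groth.Agent.H26.ArtinLipman

open Groth.Agent
open Groth.Agent.H26.Castel (gl ρ basicOpen_gl exists_iso_subscheme)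

variable {R : Type u} [CommRing R] [IsDomain R] [IsDiscreteValuationRing R]
  {X : Over (Spec (CommRingCat.of R))} {r : ℕ} (Γ : Fin r → ArSurf.VertComp R X)

/-- Fibres over affine opens meeting the isomorphism locus have dimension at most one. -/
theorem fibre_dim {X Y : Scheme.{u}} [IsIntegral X] [IsIntegral Y] [IsNoetherian X]
    (hdim : topologicalKrullDim X ≤ 2) (f : Y ⟶ X) [IsProper f] (W : X.Opens) (hiso : IsIso (f ∣_ W))
    {U : X.Opens} (hU : IsAffineOpen U) (hne : ∃ x, x ∈ U ∧ x ∈ W) (s : ↥U.toScheme) :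
    topologicalKrullDim ↥((f ∣_ U).fiber s) ≤ (1 : ℕ) := by
  haveI : Nonempty U := by
    obtain ⟨x, hx, -⟩ := hne
    exact ⟨⟨x, hx⟩⟩
  haveI : IsIntegral U.toScheme := isIntegral_of_isOpenImmersion U.ι
  haveI : IsIso (f ∣_ (U ⊓ W)) := PointBlow.isIso_restrict_mono f (U := W) inf_le_right
  haveI : IsIso (f ∣_ U ∣_ (U.ι ⁻¹ᵁ W)) := by
    have h : MorphismProperty.isomorphisms Scheme (f ∣_ (U.ι ''ᵁ (U.ι ⁻¹ᵁ W))) := by
      rw [(MorphismProperty.isomorphisms Scheme).arrow_mk_iso_iff (morphismRestrictEq f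
        (show U.ι ''ᵁ (U.ι ⁻¹ᵁ W) = U ⊓ W by rw [U.ι.image_preimage_eq_opensRange_inf, U.opensRange_ι]))]
      exact ‹IsIso (f ∣_ (U ⊓ W))›
    exact ((MorphismProperty.isomorphisms Scheme).arrow_mk_iso_iff (morphismRestrictRestrict f U _)).2 h
  obtain ⟨x, hx, hxP⟩ := hne
  have hd : topologicalKrullDim ↥U.toScheme ≤ (2 : ℕ) :=
    (U.ι.isOpenEmbedding.isInducing.topologicalKrullDim_le).trans (by exact_mod_cast hdim)
  haveI : IrreducibleSpace ↥(f ⁻¹ᵁ U).toScheme := by
    haveI : Nonempty (f ⁻¹ᵁ U : Y.Opens) := by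
      haveI : IsIso (f ∣_ W) := hiso
      obtain ⟨y, hy⟩ := (f ∣_ W).homeomorph.surjective ⟨x, hxP⟩
      refine ⟨⟨y.1, ?_⟩⟩
      have : f y.1 = x := (morphismRestrict_base_coe f W y).symm.trans (congrArg Subtype.val hy)
      show f y.1 ∈ U
      rw [this]; exact hx
    haveI : IsIntegral (f ⁻¹ᵁ U).toScheme := isIntegral_of_isOpenImmersion (f ⁻¹ᵁ U).ι
    infer_instance
  exact RelPC17.BirFibre.fibre_dim_le_one (f ∣_ U) hd (U.ι ⁻¹ᵁ W) ⟨⟨x, hx⟩, hxP⟩ s

/-- Generation by global sections passes to the pullback. -/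
theorem isGloballyGenerated_pullback {Z W : Scheme.{u}} (t : Z ⟶ W) {M : W.Modules} (hM : PicF.IsInvertible M)
    (h : Curv2.IsGloballyGenerated M) : Curv2.IsGloballyGenerated ((Scheme.Modules.pullback t).obj M) := by
  refine HorizGG.isGloballyGenerated_of_generators fun p => ?_
  obtain ⟨s, hs⟩ := GenLocusGG.exists_mem_locus hM h (t p)
  refine ⟨(LefFEt.uIso t).inv ≫ (Scheme.Modules.pullback t).map (InvX.ofSect s), ?_⟩
  show p ∈ CohB1.genLocus _ ((LefFEt.uIso t).symm.hom ≫ (Scheme.Modules.pullback t).map (InvX.ofSect s))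
  rw [InvX.genLocus_pullback t hM (InvX.ofSect s) (LefFEt.uIso t).symm]
  exact hs

variable [Infinite (IsLocalRing.ResidueField R)] (hX : ArSurf.IsArithSurface R X)
  (hΓ : Function.Injective fun i => Set.range ((Γ i).ι.base : (Γ i).curve.left → X.left))
  (L : Fin r → X.left.Modules) (hL : ∀ j, ClSub.IsInverseOf (L j) (ClSub.idealMod (Γ j).ι.ker))

include hX hΓ hL in
/-- The lengths of the thickenings. -/
theorem lengthH_step (hb : Rational Γ) (z : Fin r → ℕ) (n : ℕ) :
    (Models.lengthH R X (ClSub.quotMod (P Γ z ^ (n + 1))) 0 : ℤ) =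
      Models.lengthH R X (ClSub.quotMod (P Γ z ^ n)) 0 +
        (n : ℤ) * -((Finset.univ : Finset (Fin r × Fin r)).sum
          (fun p => (z p.1 : ℤ) * (z p.2 : ℤ) * ArSurf.inter R X (L p.2) (Γ p.1))) +
        Models.lengthH R X (ClSub.quotMod (P Γ z)) 0 := by
  obtain ⟨ω, hω⟩ := Castel.exists_canonical hX
  let q := (Finset.univ : Finset (Fin r × Fin r)).sum
    (fun p => (z p.1 : ℤ) * (z p.2 : ℤ) * ArSurf.inter R X (L p.2) (Γ p.1))
  let k := ∑ i, (z i : ℤ) * ArSurf.inter R X ω (Γ i)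
  have key : ∀ m : ℕ, (m : ℤ) * ((m : ℤ) * q + k) =
      -2 * (Models.lengthH R X (ClSub.quotMod (P Γ z ^ m)) 0 : ℤ) := fun m => by
    have hc := (Adjunction.good_chi (Γ := Γ) (L := L) hX hΓ hL ω hω _ (fun j => m * z j) rfl).2
    have hadj : Adjunction.adjForm Γ L ω (fun j => m * z j) = (m : ℤ) * ((m : ℤ) * q + k) := by
      simp only [Adjunction.adjForm, q, k, Fintype.sum_prod_type, mul_add, Finset.mul_sum, Finset.sum_add_distrib]
      push_cast
      congr 1
      · exact Finset.sum_congr rfl fun i _ => Finset.sum_congr rfl fun j _ => by ring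
      · exact Finset.sum_congr rfl fun i _ => by ring
    rw [hadj, show ∏ j, (Γ j).ι.ker ^ (m * z j) = P Γ z ^ m from P_nsmul Γ m z] at hc
    have h1 := subsingleton_H1_P Γ hb fun j => m * z j
    rw [P_nsmul] at h1
    have hz1' : Models.lengthH R X (ClSub.quotMod (P Γ z ^ m)) 1 = 0 := by
      haveI := h1
      simp [Models.lengthH, Module.length_eq_zero]
    rw [hc, EulerFibre.chi, hz1']
    push_cast
    ring
  have a1 := key (n + 1)
  have a2 := key n
  have a3 := key 1
  rw [pow_one] at a3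
  push_cast at a1 a3
  have : (2 : ℤ) * (Models.lengthH R X (ClSub.quotMod (P Γ z ^ (n + 1))) 0 : ℤ) = 2 * (
      Models.lengthH R X (ClSub.quotMod (P Γ z ^ n)) 0 + (n : ℤ) * -q +
        Models.lengthH R X (ClSub.quotMod (P Γ z)) 0) := by linear_combination a1 - a2 - a3
  linarith

set_option maxHeartbeats 4000000 in
include hX hΓ hL in
/-- The Hilbert-Samuel function of the contraction. -/
theorem length_quot_pow (hconn : _root_.IsConnected (⋃ i, Set.range ((Γ i).ι.base : (Γ i).curve.left → X.left)))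
    (hb : Rational Γ) (z : Fin r → ℕ) (hz1 : ∀ i, 1 ≤ z i)
    (hz : ∀ i, ∑ j, (z j : ℤ) * ArSurf.inter R X (L j) (Γ i) ≤ 0)
    (hmin : ∀ z' : Fin r → ℕ, (∀ i, 1 ≤ z' i) → (∀ i, ∑ j, (z' j : ℤ) * ArSurf.inter R X (L j) (Γ i) ≤ 0) →
      ∀ i, z i ≤ z' i)
    (Y : Over (Spec (CommRingCat.of R))) (f : X ⟶ Y) (hYint : IsIntegral Y.left)
    (hnor : ∀ q : Y.left, IsIntegrallyClosed (Y.left.presheaf.stalk q)) (hYd : topologicalKrullDim Y.left = 2)
    (hYp : Neron.IsProjectiveOver R Y)
    (y : Y.left) (himg : f.left.base '' (⋃ i, Set.range (Γ i).ι.base) = {y})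
    (hfpre : f.left.base ⁻¹' {y} = ⋃ i, Set.range (Γ i).ι.base)
    (U₀ : Y.left.Opens) (hyU₀ : y ∈ U₀)
    (hfiso : ∀ V : Y.left.Opens, V ≤ U₀ → y ∉ V → IsIso (f.left ∣_ V)) (k : ℕ) :
    letI : Algebra R (Y.left.presheaf.stalk y) := (Models.stalkHom R Y y).toAlgebra
    Module.length R (Y.left.presheaf.stalk y ⧸ IsLocalRing.maximalIdeal (Y.left.presheaf.stalk y) ^ k) =
      (Models.lengthH R X (ClSub.quotMod (P Γ z ^ k)) 0 : ℕ∞) := by
  classical
  haveI := Adjunction.isProper_hom hX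
  obtain ⟨hreg, hint, hdim, hflat, -⟩ := id hX
  haveI := hint
  haveI := hYint
  haveI : IsProper Y.hom := by
    obtain ⟨n, i, hi, hc⟩ := hYp
    haveI := hi
    haveI := MultiP1.isProper_toBase (X := Spec (CommRingCat.of R)) n
    exact hc ▸ inferInstance
  haveI : IsProper f.left := by
    haveI : IsProper (f.left ≫ Y.hom) := by rw [Over.w f]; infer_instance
    exact IsProper.of_comp f.left Y.hom
  haveI : IsLocallyNoetherian Y.left := LocallyOfFiniteType.isLocallyNoetherian Y.hom
  haveI : CompactSpace Y.left := QuasiCompact.compactSpace_of_compactSpace Y.hom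
  haveI : IsNoetherian Y.left := { __ := ‹IsLocallyNoetherian Y.left›, __ := ‹CompactSpace Y.left› }
  haveI : IsLocallyNoetherian X.left := LocallyOfFiniteType.isLocallyNoetherian X.hom
  haveI : CompactSpace X.left := QuasiCompact.compactSpace_of_compactSpace X.hom
  haveI : IsNoetherian X.left := { __ := ‹IsLocallyNoetherian X.left›, __ := ‹CompactSpace X.left› }
  have hnorm : Pi1.IsNormalScheme Y.left := fun q => ⟨inferInstance, hnor q⟩
  obtain ⟨x₀, hx₀⟩ := hconn.nonempty
  obtain ⟨i₀, hi₀⟩ := Set.mem_iUnion.1 hx₀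
  have hne0 : z ≠ 0 := fun h => by have := hz1 i₀; simp [h] at this
  have hEy : ∀ x : X.left, x ∈ ((P Γ z).support : Set X.left) ↔ f.left x = y := fun x => by
    rw [support_P Γ z hz1, ← hfpre]
    rfl
  have hy : IsClosed ({y} : Set Y.left) := by
    rw [← himg]
    exact f.left.isClosedMap _ (isClosed_iUnion_of_finite fun i => (Γ i).ι.isClosedEmbedding.isClosed_range)
  have hiso : IsIso (f.left ∣_ (U₀ ⊓ ⟨{y}ᶜ, hy.isOpen_compl⟩ : Y.left.Opens)) :=
    hfiso _ inf_le_left fun h => h.2 rfl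
  have hsub : Set.range (P Γ z).subschemeι.base ⊆ Models.specialFibreSet R X := by
    intro x hx
    have hx' := (P Γ z).range_subschemeι.le hx
    rw [support_P Γ z hz1] at hx'
    obtain ⟨i, hi⟩ := Set.mem_iUnion.1 hx'
    obtain ⟨c, rfl⟩ := hi
    show X.hom ((Γ i).ι c) = IsLocalRing.closedPoint R
    rw [← Scheme.Hom.comp_apply, (Γ i).w, Scheme.Hom.comp_apply]
    generalize (Γ i).curve.hom c = w
    refine PrimeSpectrum.ext ?_
    show Ideal.comap (IsLocalRing.residue R) w.asIdeal = IsLocalRing.maximalIdeal R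
    rw [(Ideal.eq_bot_or_top w.asIdeal).resolve_right w.isPrime.ne_top, ← RingHom.ker_eq_comap_bot,
      IsLocalRing.ker_residue]
  have hfld := (fld_fundamental Γ hX hΓ L hL hconn z hz1 hz hmin).1
  have hstep := surjective_step Γ hX L hL hb z hz1 hne0 hsub hz
  have hincl : ∀ a b : ℕ, a ≤ b → ∀ hle : P Γ z ^ b ≤ P Γ z ^ a,
      Function.Surjective (Scheme.IdealSheafData.inclusion hle).appTop := by
    intro a b hab hle
    induction b, hab using Nat.le_induction with
    | base => rw [Scheme.IdealSheafData.inclusion_id]; exact fun x => ⟨x, rfl⟩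
    | succ b hab ih =>
      have h1 : P Γ z ^ (b + 1) ≤ P Γ z ^ b := FrobIter.pow_le_pow_right (Nat.le_succ b)
      have h2 : P Γ z ^ b ≤ P Γ z ^ a := FrobIter.pow_le_pow_right hab
      have hc : (Scheme.IdealSheafData.inclusion hle).appTop =
          (Scheme.IdealSheafData.inclusion h1).appTop ≫ (Scheme.IdealSheafData.inclusion h2).appTop := by
        rw [← Scheme.Hom.comp_appTop, Scheme.IdealSheafData.inclusion_comp]
      intro x
      exact ((ih h2).comp (hstep b h1) x).imp fun c hc' => (ConcreteCategory.congr_hom hc c).trans hc'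
  -- an affine neighbourhood
  obtain ⟨U, hU, hyU, hUU₀⟩ := exists_isAffineOpen_mem_and_subset (x := y) (U := U₀) hyU₀
  have hne : ¬ (U : Set Y.left) ⊆ {y} := fun hsub => by
    have hg : genericPoint Y.left = y := hsub (((genericPoint_spec Y.left).mem_open_set_iff U.2).2 ⟨y, trivial, hyU⟩)
    have hall : ∀ q : Y.left, q = y := fun q => (hg ▸ genericPoint_specializes q : y ⤳ q).mem_closed hy rfl
    haveI : Subsingleton Y.left := ⟨fun p q => (hall p).trans (hall q).symm⟩
    have h0 : topologicalKrullDim Y.left ≤ 0 := topologicalKrullDim_zero_of_discreteTopology _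
    rw [hYd] at h0
    exact absurd h0 (by decide)
  obtain ⟨V, hVdef⟩ : ∃ V, V = f.left ⁻¹ᵁ U := ⟨_, rfl⟩
  subst hVdef
  let V : X.left.Opens := f.left ⁻¹ᵁ U
  let A := Γ(Y.left, U)
  haveI : IsAffine U.toScheme := hU
  haveI : IsNoetherianRing A := IsLocallyNoetherian.component_noetherian ⟨U, hU⟩
  haveI : CompactSpace V.toScheme := QuasiCompact.compactSpace_of_compactSpace (f.left ∣_ U)
  haveI : IsLocallyNoetherian V.toScheme := isLocallyNoetherian_of_isOpenImmersion V.ι
  haveI : IsNoetherian V.toScheme := { __ := ‹IsLocallyNoetherian V.toScheme›, __ := ‹CompactSpace V.toScheme› }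
  letI : V.toScheme.Over (Spec (CommRingCat.of A)) := ⟨(f.left ∣_ U) ≫ hU.isoSpec.hom⟩
  haveI : IsProper (V.toScheme ↘ Spec (CommRingCat.of A)) :=
    inferInstanceAs (IsProper ((f.left ∣_ U) ≫ hU.isoSpec.hom))
  obtain ⟨g, hgdef⟩ : ∃ g, g = V.toScheme ↘ Spec (CommRingCat.of A) := ⟨_, rfl⟩
  have hfac : g ≫ hU.fromSpec = V.ι ≫ f.left := by
    rw [hgdef]
    show ((f.left ∣_ U) ≫ hU.isoSpec.hom) ≫ hU.fromSpec = _
    rw [Category.assoc, IsAffineOpen.isoSpec_hom_fromSpec, morphismRestrict_ι]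
  have hgx : ∀ x : V.toScheme, hU.fromSpec (g x) = f.left (V.ι x) := fun x => by
    show (g ≫ hU.fromSpec) x = (V.ι ≫ f.left) x
    rw [hfac]
  let m : Ideal A := (hU.primeIdealOf ⟨y, hyU⟩).asIdeal
  have hfy : hU.fromSpec (hU.primeIdealOf ⟨y, hyU⟩) = y := hU.fromSpec_primeIdealOf ⟨y, hyU⟩
  haveI : m.IsMaximal := by
    rw [← PrimeSpectrum.isClosed_singleton_iff_isMaximal]
    have : ({hU.primeIdealOf ⟨y, hyU⟩} : Set (Spec Γ(Y.left, U))) = hU.fromSpec ⁻¹' {y} := by
      ext q
      exact ⟨fun hq => by rw [Set.mem_singleton_iff.1 hq]; exact hfy,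
        fun hq => hU.fromSpec.isOpenEmbedding.injective (hq.trans hfy.symm)⟩
    show IsClosed ({hU.primeIdealOf ⟨y, hyU⟩} : Set (Spec Γ(Y.left, U)))
    rw [this]
    exact hy.preimage hU.fromSpec.continuous
  have hPeff : BlowUp.IsEffCartierIdeal (P Γ z) :=
    (IdealCl.eff_and_cl_prod Finset.univ (fun j => (Γ j).ι.ker) (fun j => Adjunction.heff_vert hX _) z).1
  obtain ⟨I, hIdef⟩ : ∃ I, I = (P Γ z).comap V.ι := ⟨_, rfl⟩
  have hI : BlowUp.IsEffCartierIdeal I := by
    rw [hIdef]; exact MeroX.isEffCartier_comap V.ι _ hPeff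
  have hkern : ∀ n : ℕ, I ^ n = (P Γ z ^ n).comap V.ι := fun n => by rw [PointBlow.comap_pow, hIdef]
  have hsuppn : ∀ n : ℕ, ((P Γ z ^ n).support : Set X.left) ⊆ V := fun n x hx => by
    rcases Nat.eq_zero_or_pos n with rfl | hn
    · rw [pow_zero, Scheme.IdealSheafData.one_eq_top, Scheme.IdealSheafData.support_top] at hx
      exact hx.elim
    · rw [Scheme.IdealSheafData.support_pow (I := P Γ z) n hn.ne'] at hx
      show f.left x ∈ U
      rw [(hEy x).1 hx]
      exact hyU
  choose t ht ht' using fun n : ℕ => exists_iso_subscheme V (P Γ z ^ n) (hsuppn n) (hkern n)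
  obtain ⟨t₁, ht₁, ht₁'⟩ := exists_iso_subscheme V (P Γ z) (by simpa using hsuppn 1) hIdef
  haveI := ht₁
  have hrg : ∀ x : V.toScheme, x ∈ (I.support : Set V.toScheme) ↔ (g x).asIdeal = m := fun x => by
    rw [hIdef, Scheme.IdealSheafData.support_comap]
    show V.ι x ∈ ((P Γ z).support : Set X.left) ↔ _
    rw [hEy, ← hgx]
    constructor
    · intro h
      exact congrArg PrimeSpectrum.asIdeal (hU.fromSpec.isOpenEmbedding.injective (h.trans hfy.symm))
    · intro h
      rw [show g x = hU.primeIdealOf ⟨y, hyU⟩ from PrimeSpectrum.ext h, hfy]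
  haveI : Nonempty I.subscheme := by
    obtain ⟨p, -⟩ := (P Γ z).range_subschemeι.ge (show x₀ ∈ ((P Γ z).support : Set X.left) by
      rw [support_P Γ z hz1]; exact hx₀)
    exact ⟨(CategoryTheory.inv t₁) p⟩
  have hmI : ∀ a ∈ m, ρ (A := A) I a = 0 := fun a ha => by
    haveI : IsClosedImmersion I.subschemeι := inferInstance
    haveI : CompactSpace I.subscheme := I.subschemeι.isClosedEmbedding.compactSpace
    have hbot : I.subscheme.basicOpen (ρ (A := A) I a) = ⊥ := by
      show I.subscheme.basicOpen (I.subschemeι.appTop (gl a)) = ⊥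
      rw [← Scheme.preimage_basicOpen_top, basicOpen_gl, ← hgdef]
      refine Opens.ext (Set.eq_empty_iff_forall_notMem.2 fun q hq => hq ?_)
      rw [(hrg _).1 (I.range_subschemeι.le ⟨q, rfl⟩)]
      exact ha
    have hnil : IsNilpotent (ρ (A := A) I a) := (Scheme.isNilpotent_iff_basicOpen_eq_bot _).2 hbot
    letI : Field Γ((P Γ z).subscheme, ⊤) := hfld.toField
    have hb' : Function.Bijective (CategoryTheory.inv t₁).appTop := ConcreteCategory.bijective_of_isIso _
    exact hb'.1 (((hnil.map (CategoryTheory.inv t₁).appTop.hom).eq_zero).trans (map_zero _).symm)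
  have hoff : ∀ a ∈ m, IsAffineOpen (V.toScheme.basicOpen (gl (A := A) a)) := fun a ha => by
    have hD : Y.left.basicOpen a ≤ U₀ ⊓ ⟨{y}ᶜ, hy.isOpen_compl⟩ := fun q hq => by
      refine ⟨hUU₀ (Y.left.basicOpen_le a hq), fun (hqy : q = y) => ?_⟩
      rw [hqy, ← hfy] at hq
      exact (QCoh.mem_basicOpen_fromSpec hU _ a).1 hq ha
    haveI := hiso
    haveI : IsIso (f.left ∣_ Y.left.basicOpen a) :=
      PointBlow.isIso_restrict_mono f.left (U := U₀ ⊓ ⟨{y}ᶜ, hy.isOpen_compl⟩) hD
    haveI : IsAffine (Y.left.basicOpen a).toScheme := hU.basicOpen a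
    have haff : IsAffineOpen (f.left ⁻¹ᵁ Y.left.basicOpen a) := IsAffine.of_isIso (f.left ∣_ Y.left.basicOpen a)
    have hsec : V.toScheme.basicOpen (gl (A := A) a) = V.ι ⁻¹ᵁ (f.left ⁻¹ᵁ Y.left.basicOpen a) := by
      rw [basicOpen_gl, ← hgdef, ← Scheme.Hom.comp_preimage, ← hfac, Scheme.Hom.comp_preimage,
        hU.fromSpec_preimage_basicOpen]
    have himg : V.ι ''ᵁ (V.toScheme.basicOpen (gl (A := A) a)) = f.left ⁻¹ᵁ Y.left.basicOpen a := by
      rw [hsec, Scheme.Hom.image_preimage_eq_opensRange_inf, Scheme.Opens.opensRange_ι]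
      exact inf_eq_right.2 (f.left.preimage_mono (Y.left.basicOpen_le a))
    exact (V.ι.isAffineOpen_iff_of_isOpenImmersion).1 (himg ▸ haff)
  have hbij : Function.Bijective (gl (A := A) (V := V.toScheme)) := by
    haveI := hiso
    have hWne : ((U₀ ⊓ ⟨{y}ᶜ, hy.isOpen_compl⟩ : Y.left.Opens) : Set Y.left).Nonempty := by
      obtain ⟨q, hqU, hq⟩ := Set.not_subset.1 hne
      exact ⟨q, hUU₀ hqU, hq⟩
    have hc : ∀ {P Q S : CommRingCat.{u}} (u : P ⟶ Q) (v : Q ⟶ S), Function.Bijective u → Function.Bijective v →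
        Function.Bijective (u ≫ v) := fun u v hu hv => hv.comp hu
    have h1 : Function.Bijective (f.left ∣_ U).appTop := by
      rw [morphismRestrict_appTop]
      exact hc _ _ (Contract.bijective_app f.left hWne hnorm (U.ι ''ᵁ ⊤))
        (ConcreteCategory.bijective_of_isIso (X.left.presheaf.map _))
    have h2 : Function.Bijective (hU.isoSpec.hom.appTop) := ConcreteCategory.bijective_of_isIso _
    have h3 : Function.Bijective ((f.left ∣_ U) ≫ hU.isoSpec.hom).appTop := by
      rw [Scheme.Hom.comp_appTop]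
      exact hc _ _ h2 h1
    exact hc _ _ (ConcreteCategory.bijective_of_isIso (Scheme.ΓSpecIso (CommRingCat.of A)).inv) h3
  have hH1 : ∀ n, Subsingleton (Coh.HH V.toScheme (ClSub.quotMod (I ^ n)) 1) := fun n => by
    rw [hkern]
    exact (ExcVan.hh_quot_iff V _ (hsuppn n) 1).1 (by rw [← P_nsmul]; exact subsingleton_H1_P Γ hb _)
  have hsurj : ∀ a b : ℕ, a ≤ b → ∀ hle : I ^ b ≤ I ^ a,
      Function.Surjective (Scheme.IdealSheafData.inclusion hle).appTop := fun a b hab hle => by
    have hle' : P Γ z ^ b ≤ P Γ z ^ a := FrobIter.pow_le_pow_right hab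
    haveI := ht a
    haveI := ht b
    have hsq : Scheme.IdealSheafData.inclusion hle ≫ t b = t a ≫ Scheme.IdealSheafData.inclusion hle' := by
      rw [← cancel_mono (P Γ z ^ b).subschemeι, Category.assoc, ht' b, ← Category.assoc,
        Scheme.IdealSheafData.inclusion_subschemeι, Category.assoc, Scheme.IdealSheafData.inclusion_subschemeι, ht' a]
    have h1 : Function.Surjective
        ((Scheme.IdealSheafData.inclusion hle').appTop ≫ (t a).appTop) :=
      ((ConcreteCategory.isIso_iff_bijective (t a).appTop).1 inferInstance).2.comp (hincl a b hab hle')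
    rw [← Scheme.Hom.comp_appTop, ← hsq, Scheme.Hom.comp_appTop] at h1
    exact Function.Surjective.of_comp h1
  have hgg : Curv2.IsGloballyGenerated ((Scheme.Modules.pullback I.subschemeι).obj (ClSub.idealMod I)) := by
    have hA := IdealCl.isInvertible_idealMod hPeff
    have hgg0 := (nef_on_P Γ hX L hL hb z hz1 hne0 hsub (PicClLib.isInvertible_pullback (P Γ z).subschemeι hA)
      fun i g' hg' => by
        haveI := ArInter.isProper_curve (Γ i)
        let ee : (Scheme.Modules.pullback g').obj ((Scheme.Modules.pullback (P Γ z).subschemeι).obj (ClSub.idealMod (P Γ z))) ≅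
            (Scheme.Modules.pullback (Γ i).ι).obj (ClSub.idealMod (P Γ z)) :=
          (Scheme.Modules.pullbackComp g' _).app _ ≪≫ (Scheme.Modules.pullbackCongr hg').app _
        rw [ArInter.curveDeg_eq (Γ i) (PicClLib.isInvertible_pullback g' (PicClLib.isInvertible_pullback _ hA)),
          CurveRR.deg_congr _ ee, ← ArInter.curveDeg_eq (Γ i) (PicClLib.isInvertible_pullback _ hA)]
        refine le_of_le_of_eq ?_ (show ArSurf.inter R X (ClSub.idealMod (P Γ z)) (Γ i) = _ from rfl)
        rw [Chain.inter_prod (fun j => Adjunction.heff_vert hX _) hL]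
        have := hz i
        linarith).2
    obtain ⟨e⟩ := InterDiv.nonempty_pullback_idealMod V.ι (P Γ z) hPeff (hIdef ▸ hI)
    let ee : (Scheme.Modules.pullback t₁).obj ((Scheme.Modules.pullback (P Γ z).subschemeι).obj (ClSub.idealMod (P Γ z))) ≅
        (Scheme.Modules.pullback I.subschemeι).obj (ClSub.idealMod I) :=
      (Scheme.Modules.pullbackComp t₁ _).app _ ≪≫ (Scheme.Modules.pullbackCongr ht₁').app _ ≪≫
        ((Scheme.Modules.pullbackComp I.subschemeι V.ι).app _).symm ≪≫
        (Scheme.Modules.pullback I.subschemeι).mapIso (e ≪≫ eqToIso (by rw [hIdef]))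
    exact AmpleX.isGloballyGenerated_of_iso ee
      (isGloballyGenerated_pullback t₁ (PicClLib.isInvertible_pullback _ hA) hgg0)
  haveI : IsProper (f.left ∣_ U) := inferInstance
  have hne' : ∃ x, x ∈ U ∧ x ∈ U₀ ⊓ (⟨{y}ᶜ, hy.isOpen_compl⟩ : Y.left.Opens) := by
    obtain ⟨q, hqU, hq⟩ := Set.not_subset.1 hne
    exact ⟨q, hqU, hUU₀ hqU, hq⟩
  have hd := fibre_dim hYd.le f.left _ hiso hU hne'
  have hstr := local_structure (A := A) (V := V.toScheme) (f.left ∣_ U) hd hbij m I hI (hgdef ▸ hrg) hmI hoff hH1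
    hsurj hgg k
  obtain ⟨hs, hk⟩ := hstr
  -- the base
  obtain ⟨σ, hσ, hσg⟩ : ∃ σ : CommRingCat.of R ⟶ Γ(Y.left, U), Spec.map σ = hU.fromSpec ≫ Y.hom ∧
      ∀ r, Y.left.presheaf.germ U y hyU (σ.hom r) = Models.stalkHom R Y y r := by
    refine ⟨(Scheme.ΓSpecIso (CommRingCat.of R)).inv ≫ Y.hom.appLE ⊤ U le_top, ?_, fun r => ?_⟩
    · rw [Spec.map_comp, ← IsAffineOpen.SpecMap_appLE_fromSpec Y.hom (isAffineOpen_top _) hU le_top,
        IsAffineOpen.fromSpec_top, Scheme.isoSpec_Spec_inv]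
    · show Y.left.presheaf.germ U y hyU (Y.left.presheaf.map (homOfLE (le_top : U ≤ ⊤)).op
        (Y.hom.appTop ((Scheme.ΓSpecIso (CommRingCat.of R)).inv r))) = _
      rw [Y.left.presheaf.germ_res_apply]
      rfl
  letI : Algebra R A := σ.hom.toAlgebra
  have hbase : g ≫ Spec.map σ = V.ι ≫ X.hom := by
    rw [hσ, ← Category.assoc, hfac, Category.assoc, Over.w f]
  have hglσ : ∀ r : R, gl (A := A) (V := V.toScheme) (σ.hom r) =
      (V.ι ≫ X.hom).appTop ((Scheme.ΓSpecIso (CommRingCat.of R)).inv r) := fun r => by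
    rw [← hbase, Scheme.Hom.comp_appTop, CommRingCat.comp_apply, hgdef]
    show (V.toScheme ↘ Spec (CommRingCat.of A)).appTop ((Scheme.ΓSpecIso (CommRingCat.of A)).inv (σ.hom r)) = _
    exact congrArg _ (ConcreteCategory.congr_hom (Scheme.ΓSpecIso_inv_naturality σ) r)
  have hlen : ∀ (n : ℕ) (Q : Ideal A), RingHom.ker (ρ (A := A) (I ^ n)) = Q →
      Function.Surjective (ρ (A := A) (I ^ n)) →
      Module.length R (A ⧸ Q) =
        (letI := (Chain.rho X (P Γ z ^ n)).toAlgebra; Module.length R Γ((P Γ z ^ n).subscheme, ⊤)) := by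
    intro n Q hP hs
    subst hP
    haveI := ht n
    letI := (Chain.rho X (P Γ z ^ n)).toAlgebra
    let a : A →+* Γ((P Γ z ^ n).subscheme, ⊤) := (CategoryTheory.inv (t n).appTop).hom.comp (ρ (A := A) (I ^ n))
    have hat : ∀ x, (t n).appTop (a x) = ρ (A := A) (I ^ n) x := fun x =>
      ConcreteCategory.congr_hom (IsIso.inv_hom_id (t n).appTop) _
    have hinj : Function.Injective (t n).appTop :=
      ((ConcreteCategory.isIso_iff_bijective (t n).appTop).1 inferInstance).1
    let φ : A →ₐ[R] Γ((P Γ z ^ n).subscheme, ⊤) :=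
      { a with
        commutes' := fun r => hinj (by
          refine (hat _).trans ?_
          show (I ^ n).subschemeι.appTop (gl (σ.hom r)) =
            (t n).appTop (((P Γ z ^ n).subschemeι ≫ X.hom).appTop ((Scheme.ΓSpecIso (CommRingCat.of R)).inv r))
          rw [hglσ, ← CommRingCat.comp_apply, ← CommRingCat.comp_apply ((_ : Scheme.Hom _ _).appTop) (t n).appTop,
            ← Scheme.Hom.comp_appTop, ← Scheme.Hom.comp_appTop, ← Category.assoc, ← Category.assoc, ht' n]) }
    have hφs : Function.Surjective φ :=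
      ((ConcreteCategory.isIso_iff_bijective (CategoryTheory.inv (t n).appTop)).1 inferInstance).2.comp hs
    have hφk : RingHom.ker φ = RingHom.ker (ρ (A := A) (I ^ n)) := by
      ext x
      rw [RingHom.mem_ker, RingHom.mem_ker, ← hat x]
      exact ⟨fun hx => by rw [show a x = 0 from hx, map_zero], fun hx => hinj (hx.trans (map_zero _).symm)⟩
    rw [← hφk]
    exact (Ideal.quotientKerAlgEquivOfSurjective hφs).toLinearEquiv.length_eq
  have Lk : Module.length R (A ⧸ m ^ k) = (Models.lengthH R X (ClSub.quotMod (P Γ z ^ k)) 0 : ℕ∞) := by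
    rw [hlen k (m ^ k) hk hs]
    letI : (P Γ z ^ k).subscheme.Over (Spec (CommRingCat.of R)) := ⟨(P Γ z ^ k).subschemeι ≫ X.hom⟩
    obtain ⟨e⟩ := PnCoh.exists_linearEquiv_push R (P Γ z ^ k).subschemeι (P := X.left) rfl
      (QCoh.isQCoh_structureModule (X := (P Γ z ^ k).subscheme)) 0
    letI := (Chain.rho X (P Γ z ^ k)).toAlgebra
    have hl : Module.length R Γ((P Γ z ^ k).subscheme, ⊤) =
        Module.length R (Coh.HH X.left (ClSub.quotMod (P Γ z ^ k)) 0) :=
      (FibModel.h0Equiv ((P Γ z ^ k).subschemeι ≫ X.hom)).length_eq.symm.trans e.length_eq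
    obtain ⟨ω, hω⟩ := Castel.exists_canonical hX
    have hgood := (Adjunction.good_chi (Γ := Γ) (L := L) hX hΓ hL ω hω _ (fun j => k * z j) rfl).1
    rw [show ∏ j, (Γ j).ι.ker ^ (k * z j) = P Γ z ^ k from P_nsmul Γ k z] at hgood
    rw [hl, Models.lengthH, ENat.coe_toNat (hgood.1 0 (Nat.zero_le _))]
  -- the stalk
  letI : Algebra A (Y.left.presheaf.stalk y) := TopCat.Presheaf.algebra_section_stalk Y.left.presheaf (⟨y, hyU⟩ : U)
  haveI hloc : IsLocalization.AtPrime (Y.left.presheaf.stalk y) m := hU.isLocalization_stalk ⟨y, hyU⟩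
  letI : Algebra R (Y.left.presheaf.stalk y) := (Models.stalkHom R Y y).toAlgebra
  haveI : IsScalarTower R A (Y.left.presheaf.stalk y) :=
    IsScalarTower.of_algebraMap_eq fun r => (hσg r).symm
  exact ((((IsLocalization.AtPrime.equivQuotMaximalIdealPow m (Y.left.presheaf.stalk y) k).restrictScalars
    R).toLinearEquiv).length_eq.symm).trans Lk

end Groth.Agent.H26.ArtinLipman
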